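import Mathlib.Algebra.Homology.DerivedCategory.Ext.Map
import Mathlib.Algebra.Homology.DerivedCategory.Ext.EnoughInjectives
import Mathlib.Algebra.Homology.DerivedCategory.Ext.ExactSequences

/-! # Functoriality of `Ext.mapExactFunctor` in the functor -/

set_option autoImplicit false
universe w w' w'' v v' v'' u u' u''

open CategoryTheory CategoryTheory.Limits CategoryTheory.Abelian

namespace GrothLib.PullH25

variable {A : Type u} [Category.{v} A] [Abelian A] [EnoughInjectives A] [HasExt.{w} A]
  {B : Type u'} [Category.{v'} B] [Abelian B] [HasExt.{w'} B]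
  (F : A ⥤ B) [F.Additive] [PreservesFiniteLimits F] [PreservesFiniteColimits F]

omit [HasExt.{w'} B] [HasExt.{w} A] in
theorem injSES_shortExact (Y : A) :
    (ShortComplex.mk (Injective.ι Y) (cokernel.π (Injective.ι Y)) (cokernel.condition _)).ShortExact :=
  { exact := ShortComplex.exact_of_g_is_cokernel _ (cokernelIsCokernel _) }

/-- Every class of positive degree factors through an extension class. -/
theorem exists_comp_extClass {X Y : A} {n : ℕ} (x : Ext.{w} X Y (n + 1)) :
    ∃ y : Ext.{w} X (cokernel (Injective.ι Y)) n, y.comp (injSES_shortExact Y).extClass rfl = x :=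
  haveI : Injective (ShortComplex.mk (Injective.ι Y) (cokernel.π (Injective.ι Y)) (cokernel.condition _)).X₂ :=
    inferInstanceAs (Injective (Injective.under Y))
  Ext.covariant_sequence_exact₁ X (injSES_shortExact Y) x (Ext.eq_zero_of_injective _) rfl

variable {F} (F' : A ⥤ B) [F'.Additive] [PreservesFiniteLimits F'] [PreservesFiniteColimits F']

/-- A natural transformation intertwines the maps on `Ext`. -/
theorem mapExactFunctor_natTrans (η : F ⟶ F') {X : A} : ∀ {n : ℕ} {Y : A} (x : Ext.{w} X Y n),
    (Ext.mk₀ (η.app X)).comp (x.mapExactFunctor F') (zero_add n) =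
      (x.mapExactFunctor F).comp (Ext.mk₀ (η.app Y)) (add_zero n) := by
  intro n
  induction n with
  | zero =>
    intro Y x
    obtain ⟨f, rfl⟩ := (Ext.mk₀_bijective _ _).2 x
    rw [Ext.mapExactFunctor_mk₀, Ext.mapExactFunctor_mk₀, Ext.mk₀_comp_mk₀, Ext.mk₀_comp_mk₀, η.naturality]
  | succ n ih =>
    intro Y x
    obtain ⟨y, rfl⟩ := exists_comp_extClass x
    have hS := injSES_shortExact Y
    let S := ShortComplex.mk (Injective.ι Y) (cokernel.π (Injective.ι Y)) (cokernel.condition _)
    let φ : S.map F ⟶ S.map F' :=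
      { τ₁ := η.app S.X₁
        τ₂ := η.app S.X₂
        τ₃ := η.app S.X₃
        comm₁₂ := (η.naturality S.f).symm
        comm₂₃ := (η.naturality S.g).symm }
    have key : (hS.map_of_exact F).extClass.comp (Ext.mk₀ (η.app Y)) (add_zero 1) =
        (Ext.mk₀ (η.app S.X₃)).comp (hS.map_of_exact F').extClass (zero_add 1) :=
      ShortComplex.ShortExact.extClass_naturality (hS.map_of_exact F) (hS.map_of_exact F') φ
    rw [Ext.mapExactFunctor_comp, Ext.mapExactFunctor_comp, Ext.mapExactFunctor_extClass,
      Ext.mapExactFunctor_extClass]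
    refine Eq.trans ?_ (Ext.comp_assoc_of_third_deg_zero _ _ _ _).symm
    refine Eq.trans ?_ (congrArg (fun m => Ext.comp (y.mapExactFunctor F) m rfl) key).symm
    refine Eq.trans ?_ (Ext.comp_assoc_of_second_deg_zero _ _ _ _)
    refine Eq.trans ?_ (congrArg (fun m => Ext.comp m (hS.map_of_exact F').extClass rfl) (ih y))
    exact (Ext.comp_assoc _ _ _ (zero_add n) rfl (by omega)).symm

variable (F)
variable {D : Type u''} [Category.{v''} D] [Abelian D] [HasExt.{w''} D]
  (G : B ⥤ D) [G.Additive] [PreservesFiniteLimits G] [PreservesFiniteColimits G]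

/-- Maps on `Ext` compose. -/
theorem mapExactFunctor_mapExactFunctor {X : A} : ∀ {n : ℕ} {Y : A} (x : Ext.{w} X Y n),
    haveI : PreservesFiniteLimits (F ⋙ G) := comp_preservesFiniteLimits F G
    haveI : PreservesFiniteColimits (F ⋙ G) := comp_preservesFiniteColimits F G
    (x.mapExactFunctor F).mapExactFunctor G =
      (x.mapExactFunctor (F ⋙ G) : Ext.{w''} ((F ⋙ G).obj X) ((F ⋙ G).obj Y) n) := by
  haveI : PreservesFiniteLimits (F ⋙ G) := comp_preservesFiniteLimits F G
  haveI : PreservesFiniteColimits (F ⋙ G) := comp_preservesFiniteColimits F G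
  intro n
  induction n with
  | zero =>
    intro Y x
    obtain ⟨f, rfl⟩ := (Ext.mk₀_bijective _ _).2 x
    rw [Ext.mapExactFunctor_mk₀, Ext.mapExactFunctor_mk₀, Ext.mapExactFunctor_mk₀]
    rfl
  | succ n ih =>
    intro Y x
    obtain ⟨y, rfl⟩ := exists_comp_extClass x
    rw [Ext.mapExactFunctor_comp, Ext.mapExactFunctor_comp, Ext.mapExactFunctor_comp,
      Ext.mapExactFunctor_extClass, Ext.mapExactFunctor_extClass, ih]
    exact congrArg (fun m => Ext.comp (y.mapExactFunctor (F ⋙ G)) m rfl)
      (Ext.mapExactFunctor_extClass G ((injSES_shortExact Y).map_of_exact F))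

omit [HasExt.{w'} B] [HasExt.{w''} D] in
/-- The identity functor acts as the identity on `Ext`. -/
theorem mapExactFunctor_id {X : A} : ∀ {n : ℕ} {Y : A} (x : Ext.{w} X Y n),
    (x.mapExactFunctor (𝟭 A) : Ext.{w} X Y n) = x := by
  intro n
  induction n with
  | zero =>
    intro Y x
    obtain ⟨f, rfl⟩ := (Ext.mk₀_bijective _ _).2 x
    exact Ext.mapExactFunctor_mk₀ (𝟭 A) f
  | succ n ih =>
    intro Y x
    obtain ⟨y, rfl⟩ := exists_comp_extClass x
    refine (Ext.mapExactFunctor_comp (𝟭 A) _ _ _).trans ?_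
    rw [Ext.mapExactFunctor_extClass]
    exact congrArg (fun m => Ext.comp m (injSES_shortExact Y).extClass rfl) (ih y)

end GrothLib.PullH25
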