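import Groth.Agent.Lib.PullH25.Ext
import Groth.Agent.Lib.SheafCoh.PushInj
import Groth.Prelude.Def_CohTop
import Mathlib.CategoryTheory.Adjunction.Unique
import Mathlib.CategoryTheory.Sites.ConstantSheaf
import Mathlib.CategoryTheory.Comma.Over.Basic

/-! # `T ↦ Hⁿ(T, F|T)` as a functor on spaces over `S` -/

set_option autoImplicit false
universe w v₀ v₁ v₂ v₃ u₀ u₁ u₂ u₃ u

open CategoryTheory CategoryTheory.Limits Opposite CategoryTheory.Abelian

namespace GrothLib.PullH25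

section Coherence

variable {C₀ : Type u₀} [Category.{v₀} C₀] {C₁ : Type u₁} [Category.{v₁} C₁] {C₂ : Type u₂} [Category.{v₂} C₂]
  {C₃ : Type u₃} [Category.{v₃} C₃]
  {Lt : C₀ ⥤ C₁} {Rt : C₁ ⥤ C₀} (t : Lt ⊣ Rt) {Lg : C₁ ⥤ C₂} {Rg : C₂ ⥤ C₁} (g : Lg ⊣ Rg)
  {Lh : C₂ ⥤ C₃} {Rh : C₃ ⥤ C₂} (h : Lh ⊣ Rh)

theorem coherence {Lgt : C₀ ⥤ C₂} (gt : Lgt ⊣ Rg ⋙ Rt) {Lhg : C₁ ⥤ C₃} (hg : Lhg ⊣ Rh ⋙ Rg)
    {Lhgt : C₀ ⥤ C₃} (hgt : Lhgt ⊣ Rh ⋙ Rg ⋙ Rt) (hgt' : Lhgt ⊣ (Rh ⋙ Rg) ⋙ Rt)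
    (e : hgt.unit.app = hgt'.unit.app) (X : C₀) :
    (Adjunction.leftAdjointUniq hgt (gt.comp h)).hom.app X ≫
        Lh.map ((Adjunction.leftAdjointUniq gt (t.comp g)).hom.app X) =
      (Adjunction.leftAdjointUniq hgt' (t.comp hg)).hom.app X ≫
        (Adjunction.leftAdjointUniq hg (g.comp h)).hom.app (Lt.obj X) := by
  apply (hgt.homEquiv X _).injective
  rw [hgt.homEquiv_unit, hgt.homEquiv_unit, Functor.map_comp, Functor.map_comp, ← Category.assoc,
    Adjunction.unit_leftAdjointUniq_hom_app]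
  have h1 : hgt.unit.app X ≫ (Rh ⋙ Rg ⋙ Rt).map
      ((Adjunction.leftAdjointUniq hgt' (t.comp hg)).hom.app X) = (t.comp hg).unit.app X := by
    rw [e]
    exact Adjunction.unit_leftAdjointUniq_hom_app hgt' (t.comp hg) X
  refine Eq.trans ?_ ((congrArg (fun k => k ≫ _) h1).symm.trans (Category.assoc _ _ _))
  have h2 := Adjunction.unit_leftAdjointUniq_hom_app gt (t.comp g) X
  have h3 := Adjunction.unit_leftAdjointUniq_hom_app hg (g.comp h) (Lt.obj X)
  simp only [Adjunction.comp_unit_app, Functor.comp_map, Functor.comp_obj] at h2 h3 ⊢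
  rw [Category.assoc, ← Functor.map_comp Rt, ← Functor.map_comp Rg, h.unit_naturality, Functor.map_comp Rg,
    Functor.map_comp Rt, ← Category.assoc, h2]
  simp only [Category.assoc, ← Functor.map_comp]
  rw [← h3]

theorem coherence_id {Lgt : C₀ ⥤ C₁} (gt : Lgt ⊣ Rt) {Li : C₁ ⥤ C₁} (i : Li ⊣ 𝟭 C₁)
    (gt' : Lgt ⊣ 𝟭 C₁ ⋙ Rt) (e : gt.unit.app = gt'.unit.app) (X : C₀) :
    (Adjunction.leftAdjointUniq gt' (t.comp i)).hom.app X ≫
        (Adjunction.leftAdjointUniq i Adjunction.id).hom.app (Lt.obj X) =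
      (Adjunction.leftAdjointUniq gt t).hom.app X := by
  apply (gt.homEquiv X _).injective
  rw [gt.homEquiv_unit, gt.homEquiv_unit, Functor.map_comp, Adjunction.unit_leftAdjointUniq_hom_app,
    ← Category.assoc, e]
  refine (congrArg (fun k => k ≫ _) (Adjunction.unit_leftAdjointUniq_hom_app gt' (t.comp i) X)).trans ?_
  have h3 := Adjunction.unit_leftAdjointUniq_hom_app i Adjunction.id (Lt.obj X)
  simp only [Adjunction.comp_unit_app, Functor.id_map] at h3 ⊢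
  rw [Category.assoc, ← Functor.map_comp, h3]
  simp [Adjunction.id]

end Coherence

/-- Composing degree-zero classes on both sides. -/
theorem sandwich {B : Type u₁} [Category.{v₁} B] [Abelian B] [HasExt.{w} B] {n : ℕ} {a₀ a₁ a₂ a₃ a₄ a₅ : B}
    (a : a₀ ⟶ a₁) (b : a₁ ⟶ a₂) (y : Ext.{w} a₂ a₃ n) (c : a₃ ⟶ a₄) (d : a₄ ⟶ a₅) :
    ((Ext.mk₀ a).comp (((Ext.mk₀ b).comp y (zero_add n)).comp (Ext.mk₀ c) (add_zero n)) (zero_add n)).comp
        (Ext.mk₀ d) (add_zero n) =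
      ((Ext.mk₀ (a ≫ b)).comp y (zero_add n)).comp (Ext.mk₀ (c ≫ d)) (add_zero n) := by
  simp [Ext.comp_assoc_of_third_deg_zero, Ext.mk₀_comp_mk₀_assoc, Ext.mk₀_comp_mk₀,
    Ext.comp_assoc_of_second_deg_zero]

section Top

variable {S : TopCat.{u}}

/-- Inverse image is left adjoint to direct image. -/
noncomputable abbrev pAdj {X Y : TopCat.{u}} (g : X ⟶ Y) : CohTop.pull g ⊣ CohTop.push g :=
  TopCat.Sheaf.pullbackPushforwardAdjunction AddCommGrpCat.{u} g

/-- `(g ≫ t)* = t* ⋙ g*`. -/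
noncomputable def pullIso {X Y Z : TopCat.{u}} (g : X ⟶ Y) (t : Y ⟶ Z) :
    CohTop.pull (g ≫ t) ≅ CohTop.pull t ⋙ CohTop.pull g :=
  Adjunction.leftAdjointUniq (pAdj (g ≫ t)) ((pAdj t).comp (pAdj g))

theorem pullIso_coherence {X Y Z W : TopCat.{u}} (h : X ⟶ Y) (g : Y ⟶ Z) (t : Z ⟶ W) (F : CohTop.Ab W) :
    (pullIso h (g ≫ t)).hom.app F ≫ (CohTop.pull h).map ((pullIso g t).hom.app F) =
      (pullIso (h ≫ g) t).hom.app F ≫ (pullIso h g).hom.app ((CohTop.pull t).obj F) :=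
  coherence (pAdj t) (pAdj g) (pAdj h) (pAdj (g ≫ t)) (pAdj (h ≫ g)) (pAdj (h ≫ g ≫ t)) (pAdj ((h ≫ g) ≫ t)) rfl F

/-- `id* = id`. -/
noncomputable def pullId (X : TopCat.{u}) : CohTop.pull (𝟙 X) ≅ 𝟭 _ :=
  Adjunction.leftAdjointUniq (pAdj (𝟙 X)) Adjunction.id

theorem pullIso_id {Y Z : TopCat.{u}} (t : Y ⟶ Z) (F : CohTop.Ab Z) :
    (pullIso (𝟙 Y) t).hom.app F ≫ (pullId Y).hom.app ((CohTop.pull t).obj F) =
      𝟙 ((CohTop.pull t).obj F) :=
  (coherence_id (pAdj t) (pAdj t) (pAdj (𝟙 Y)) (pAdj (𝟙 Y ≫ t)) rfl F).trans (by simp)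

variable [∀ X : TopCat.{u}, HasExt.{u} (CohTop.Ab X)] (A F : CohTop.Ab S) (n : ℕ)

/-- The pullback map on `Ext`. -/
noncomputable def res {X Y : TopCat.{u}} (g : X ⟶ Y) (t : Y ⟶ S)
    (x : Ext.{u} ((CohTop.pull t).obj A) ((CohTop.pull t).obj F) n) :
    Ext.{u} ((CohTop.pull (g ≫ t)).obj A) ((CohTop.pull (g ≫ t)).obj F) n :=
  haveI := SheafCoh.preservesFiniteLimits_pull g
  haveI : PreservesColimitsOfSize.{0, 0} (CohTop.pull g) := (pAdj g).leftAdjoint_preservesColimits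
  haveI : (CohTop.pull g).Additive := Functor.additive_of_preserves_binary_products _
  ((Ext.mk₀ ((pullIso g t).hom.app A)).comp (x.mapExactFunctor (CohTop.pull g)) (zero_add n)).comp
    (Ext.mk₀ ((pullIso g t).inv.app F)) (add_zero n)

theorem res_add {X Y : TopCat.{u}} (g : X ⟶ Y) (t : Y ⟶ S)
    (x y : Ext.{u} ((CohTop.pull t).obj A) ((CohTop.pull t).obj F) n) :
    res A F n g t (x + y) = res A F n g t x + res A F n g t y := by
  simp [res]

theorem res_id {Y : TopCat.{u}} (t : Y ⟶ S) (x : Ext.{u} ((CohTop.pull t).obj A) ((CohTop.pull t).obj F) n) :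
    res A F n (𝟙 Y) t x = x := by
  have := SheafCoh.preservesFiniteLimits_pull (𝟙 Y)
  have : PreservesColimitsOfSize.{0, 0} (CohTop.pull (𝟙 Y)) := (pAdj (𝟙 Y)).leftAdjoint_preservesColimits
  have : (CohTop.pull (𝟙 Y)).Additive := Functor.additive_of_preserves_binary_products _
  have := SheafCoh.enoughInjectivesAb (J := Opens.grothendieckTopology Y)
  let p := pullId Y
  have hn := mapExactFunctor_natTrans (𝟭 (CohTop.Ab Y)) p.hom x
  rw [mapExactFunctor_id] at hn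
  have e : x.mapExactFunctor (CohTop.pull (𝟙 Y)) =
      ((Ext.mk₀ (p.hom.app ((CohTop.pull t).obj A))).comp x (zero_add n)).comp
        (Ext.mk₀ (p.inv.app ((CohTop.pull t).obj F))) (add_zero n) := by
    rw [hn, Ext.comp_assoc_of_second_deg_zero, Ext.mk₀_comp_mk₀, Iso.hom_inv_id_app]
    exact (Ext.comp_mk₀_id _).symm
  have hA : (pullIso (𝟙 Y) t).hom.app A ≫ p.hom.app _ = 𝟙 ((CohTop.pull t).obj A) := pullIso_id t A
  have hF : p.inv.app _ ≫ (pullIso (𝟙 Y) t).inv.app F = 𝟙 ((CohTop.pull t).obj F) := by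
    rw [← cancel_epi ((pullIso (𝟙 Y) t).hom.app F ≫ p.hom.app _)]
    simp only [Category.assoc, Iso.hom_inv_id_app_assoc, Category.comp_id]
    exact (Iso.hom_inv_id_app _ F).trans ((congrArg (· ≫ 𝟙 _) (pullIso_id t F)).trans (Category.comp_id _)).symm
  rw [res, e]
  refine (sandwich _ _ x _ _).trans ?_
  refine (congrArg₂ (fun a b => ((Ext.mk₀ a).comp x (zero_add n)).comp (Ext.mk₀ b) (add_zero n)) hA hF).trans ?_
  exact (Ext.comp_mk₀_id _).trans (Ext.mk₀_id_comp x)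

theorem res_res {X Y Z : TopCat.{u}} (h : X ⟶ Y) (g : Y ⟶ Z) (t : Z ⟶ S)
    (x : Ext.{u} ((CohTop.pull t).obj A) ((CohTop.pull t).obj F) n) :
    res A F n h (g ≫ t) (res A F n g t x) = res A F n (h ≫ g) t x := by
  have := SheafCoh.preservesFiniteLimits_pull g
  have : PreservesColimitsOfSize.{0, 0} (CohTop.pull g) := (pAdj g).leftAdjoint_preservesColimits
  have : (CohTop.pull g).Additive := Functor.additive_of_preserves_binary_products _
  have := SheafCoh.preservesFiniteLimits_pull h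
  have : PreservesColimitsOfSize.{0, 0} (CohTop.pull h) := (pAdj h).leftAdjoint_preservesColimits
  have : (CohTop.pull h).Additive := Functor.additive_of_preserves_binary_products _
  have := SheafCoh.preservesFiniteLimits_pull (h ≫ g)
  have : PreservesColimitsOfSize.{0, 0} (CohTop.pull (h ≫ g)) := (pAdj (h ≫ g)).leftAdjoint_preservesColimits
  have : (CohTop.pull (h ≫ g)).Additive := Functor.additive_of_preserves_binary_products _
  have : PreservesFiniteLimits (CohTop.pull g ⋙ CohTop.pull h) := comp_preservesFiniteLimits _ _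
  have : PreservesFiniteColimits (CohTop.pull g ⋙ CohTop.pull h) := comp_preservesFiniteColimits _ _
  have := SheafCoh.enoughInjectivesAb (J := Opens.grothendieckTopology Z)
  let η := (pullIso h g).hom
  have hn := mapExactFunctor_natTrans (CohTop.pull g ⋙ CohTop.pull h) η x
  have e : x.mapExactFunctor (CohTop.pull (h ≫ g)) =
      ((Ext.mk₀ (η.app ((CohTop.pull t).obj A))).comp (x.mapExactFunctor (CohTop.pull g ⋙ CohTop.pull h)) (zero_add n)).comp
        (Ext.mk₀ ((pullIso h g).inv.app ((CohTop.pull t).obj F))) (add_zero n) := by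
    rw [hn, Ext.comp_assoc_of_second_deg_zero, Ext.mk₀_comp_mk₀, Iso.hom_inv_id_app]
    exact (Ext.comp_mk₀_id _).symm
  have hA := pullIso_coherence h g t A
  have hF : (CohTop.pull h).map ((pullIso g t).inv.app F) ≫ (pullIso h (g ≫ t)).inv.app F =
      (pullIso h g).inv.app ((CohTop.pull t).obj F) ≫ (pullIso (h ≫ g) t).inv.app F := by
    apply (cancel_epi ((pullIso (h ≫ g) t).hom.app F ≫ (pullIso h g).hom.app ((CohTop.pull t).obj F))).1
    refine (congrArg (fun k => k ≫ _) (pullIso_coherence h g t F).symm).trans ?_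
    simp [← Functor.map_comp_assoc]
    rfl
  rw [res, res, res, e, Ext.mapExactFunctor_comp, Ext.mapExactFunctor_comp, Ext.mapExactFunctor_mk₀,
    Ext.mapExactFunctor_mk₀, mapExactFunctor_mapExactFunctor]
  refine (sandwich _ _ _ _ _).trans ?_
  refine Eq.trans ?_ (sandwich _ _ _ _ _).symm
  exact congrArg₂ (fun a b => ((Ext.mk₀ a).comp (x.mapExactFunctor (CohTop.pull g ⋙ CohTop.pull h))
    (zero_add n)).comp (Ext.mk₀ b) (add_zero n)) hA hF

/-- The pullback map on `Ext`, along a commutative triangle. -/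
noncomputable def res' {X Y : TopCat.{u}} (g : X ⟶ Y) (t : Y ⟶ S) (t' : X ⟶ S) (w : g ≫ t = t') :
    Ext.{u} ((CohTop.pull t).obj A) ((CohTop.pull t).obj F) n →+
      Ext.{u} ((CohTop.pull t').obj A) ((CohTop.pull t').obj F) n :=
  w ▸ AddMonoidHom.mk' (res A F n g t) (res_add A F n g t)

theorem res'_id {Y : TopCat.{u}} (g : Y ⟶ Y) (hg : g = 𝟙 Y) (t : Y ⟶ S) (w : g ≫ t = t)
    (x : Ext.{u} ((CohTop.pull t).obj A) ((CohTop.pull t).obj F) n) : res' A F n g t t w x = x := by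
  subst hg
  exact res_id A F n t x

theorem res'_comp {X Y Z : TopCat.{u}} (h : X ⟶ Y) (g : Y ⟶ Z) (k : X ⟶ Z) (hk : h ≫ g = k) (t : Z ⟶ S)
    (t' : Y ⟶ S) (t'' : X ⟶ S) (w₁ : g ≫ t = t') (w₂ : h ≫ t' = t'') (w₃ : k ≫ t = t'')
    (x : Ext.{u} ((CohTop.pull t).obj A) ((CohTop.pull t).obj F) n) :
    res' A F n k t t'' w₃ x = res' A F n h t' t'' w₂ (res' A F n g t t' w₁ x) := by
  subst hk
  subst w₁
  subst w₂
  exact (res_res A F n h g t x).symm

/-- `T ↦ Extⁿ(A|T, F|T)`. -/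
noncomputable def pullExtFun : (Over S)ᵒᵖ ⥤ AddCommGrpCat.{u} where
  obj T := AddCommGrpCat.of (Ext.{u} ((CohTop.pull T.unop.hom).obj A) ((CohTop.pull T.unop.hom).obj F) n)
  map {T T'} g :=
    AddCommGrpCat.ofHom (res' A F n g.unop.left T.unop.hom T'.unop.hom (Over.w g.unop))
  map_id T := by
    ext x
    exact res'_id A F n (𝟙 T).unop.left rfl T.unop.hom (Over.w (𝟙 T).unop) x
  map_comp {T T' T''} g h := by
    ext x
    exact res'_comp A F n h.unop.left g.unop.left (g ≫ h).unop.left rfl T.unop.hom T'.unop.hom T''.unop.hom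
      (Over.w g.unop) (Over.w h.unop) (Over.w (g ≫ h).unop) x

end Top

end GrothLib.PullH25
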