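import Groth.Agent.Lib.PullH25.Functor
import Groth.Agent.Lib.SheafCoh.Terminal

/-! # The pullback of a constant sheaf is constant -/

set_option autoImplicit false
universe u

open CategoryTheory CategoryTheory.Limits Opposite CategoryTheory.Abelian

namespace GrothLib.PullH25

/-- `t* const = const`. -/
noncomputable def pullConstIso {T S : TopCat.{u}} (t : T ⟶ S) :
    constantSheaf (Opens.grothendieckTopology S) AddCommGrpCat.{u} ⋙ CohTop.pull t ≅
      constantSheaf (Opens.grothendieckTopology T) AddCommGrpCat.{u} :=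
  Adjunction.leftAdjointUniq
    ((constantSheafAdj (Opens.grothendieckTopology S) AddCommGrpCat.{u} (T := (⊤ : TopologicalSpace.Opens S))
      isTerminalTop).comp (pAdj t))
    (constantSheafAdj (Opens.grothendieckTopology T) AddCommGrpCat.{u} (T := (⊤ : TopologicalSpace.Opens T))
      isTerminalTop)

theorem nonempty_pullExt_H [∀ X : TopCat.{u}, HasExt.{u} (CohTop.Ab X)] {T S : TopCat.{u}} (t : T ⟶ S)
    (F : CohTop.Ab S) (q : ℕ) :
    Nonempty (Ext.{u} ((CohTop.pull t).obj (CohTop.const S (ULift.{u} ℤ))) ((CohTop.pull t).obj F) q ≃+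
      CohTop.H ((CohTop.pull t).obj F) q) :=
  ⟨SheafCoh.extPrecompIso ((pullConstIso t).app (AddCommGrpCat.of (ULift.{u} ℤ))).symm _ q⟩

theorem nonempty_H_pull_id {S : TopCat.{u}} (F : CohTop.Ab S) (q : ℕ) :
    Nonempty (CohTop.H ((CohTop.pull (𝟙 S)).obj F) q ≃+ CohTop.H F q) :=
  ⟨(((Abelian.extFunctor.{u} q).obj (op ((constantSheaf (Opens.grothendieckTopology S) AddCommGrpCat.{u}).obj
    (AddCommGrpCat.of (ULift.{u} ℤ))))).mapIso ((pullId S).app F)).addCommGroupIsoToAddEquiv⟩

end GrothLib.PullH25
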