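import Groth.Agent.Lib.PullH25.Functor
import Mathlib.AlgebraicTopology.ExtraDegeneracy
import Mathlib.Algebra.Homology.Opposite
import Mathlib.Algebra.Homology.SingleHomology
import Mathlib.Topology.Category.TopCat.Limits.Pullbacks

/-! # A map with a section: the Čech complex of `Hᵠ` is a resolution -/

set_option autoImplicit false
universe u

open CategoryTheory CategoryTheory.Limits Opposite Simplicial

namespace GrothLib.PullH25

variable {X S : TopCat.{u}} (f : X ⟶ S)

/-- The augmented Čech nerve, over the base. -/
noncomputable def nerveOver : SimplicialObject.Augmented (Over S) where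
  left :=
    { obj := fun n => Over.mk (WidePullback.base (fun _ : Fin (n.unop.len + 1) => f) :
        widePullback S (fun _ : Fin (n.unop.len + 1) => X) (fun _ => f) ⟶ S)
      map := fun g => Over.homMk ((Arrow.mk f).cechNerve.map g) (WidePullback.lift_base _ _ _ _)
      map_id := fun n => Over.OverMorphism.ext ((Arrow.mk f).cechNerve.map_id n)
      map_comp := fun g h => Over.OverMorphism.ext ((Arrow.mk f).cechNerve.map_comp g h) }
  right := Over.mk (𝟙 S)
  hom :=
    { app := fun n => Over.homMk (WidePullback.base _) (Category.comp_id _)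
      naturality := fun n m g => Over.OverMorphism.ext ((Arrow.mk f).augmentedCechNerve.hom.naturality g) }

/-- A section gives an extra degeneracy over the base. -/
noncomputable def extraDegeneracyOver (s : S ⟶ X) (hs : s ≫ f = 𝟙 S) :
    SimplicialObject.Augmented.ExtraDegeneracy (nerveOver f) :=
  let e := Arrow.AugmentedCechNerve.extraDegeneracy (Arrow.mk f) ⟨s, hs⟩
  { s' := Over.homMk e.s' e.s'_comp_ε
    s := fun n => Over.homMk (e.s n) (Arrow.AugmentedCechNerve.ExtraDegeneracy.s_comp_base _ _ _)
    s'_comp_ε := Over.OverMorphism.ext e.s'_comp_ε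
    s₀_comp_δ₁ := Over.OverMorphism.ext e.s₀_comp_δ₁
    s_comp_δ₀ := fun n => Over.OverMorphism.ext (e.s_comp_δ₀ n)
    s_comp_δ := fun n i => Over.OverMorphism.ext (e.s_comp_δ n i)
    s_comp_σ := fun n i => Over.OverMorphism.ext (e.s_comp_σ n i) }

variable (G : (Over S)ᵒᵖ ⥤ AddCommGrpCat.{u})

/-- The nerve after applying a presheaf. -/
noncomputable abbrev nerveG : SimplicialObject.Augmented AddCommGrpCat.{u}ᵒᵖ :=
  ((SimplicialObject.Augmented.whiskering _ _).obj G.rightOp).obj (nerveOver f)

/-- Its alternating face map complex. -/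
noncomputable abbrev chainG : ChainComplex AddCommGrpCat.{u}ᵒᵖ ℕ :=
  AlgebraicTopology.AlternatingFaceMapComplex.obj (SimplicialObject.Augmented.drop.obj (nerveG f G))

/-- The Čech cochain complex. -/
noncomputable def cochainG : CochainComplex AddCommGrpCat.{u} ℕ := HomologicalComplex.unop (chainG f G)

theorem cochainG_X (p : ℕ) :
    (cochainG f G).X p = G.obj (op (Over.mk (WidePullback.base (fun _ : Fin (p + 1) => f) :
      widePullback S (fun _ : Fin (p + 1) => X) (fun _ => f) ⟶ S))) := rfl

variable (s : S ⟶ X) (hs : s ≫ f = 𝟙 S)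

/-- The homology of the Čech complex. -/
noncomputable def homologyG (p : ℕ) :
    (cochainG f G).homology p ≅
      unop (((ChainComplex.single₀ AddCommGrpCat.{u}ᵒᵖ).obj (op (G.obj (op (Over.mk (𝟙 S)))))).homology p) :=
  (chainG f G).homologyUnop p ≪≫
    ((((extraDegeneracyOver f s hs).map G.rightOp).homotopyEquiv).toHomologyIso p).unop.symm

include hs in
theorem isZero_homology_succ (p : ℕ) : IsZero ((cochainG f G).homology (p + 1)) :=
  IsZero.of_iso (((HomologicalComplex.exactAt_iff_isZero_homology _ _).1
    (ChainComplex.exactAt_succ_single_obj _ p)).unop) (homologyG f G s hs (p + 1))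

/-- In degree `0` it is the value on the base. -/
noncomputable def homologyZeroG : (cochainG f G).homology 0 ≅ G.obj (op (Over.mk (𝟙 S))) :=
  homologyG f G s hs 0 ≪≫
    ((HomologicalComplex.singleObjHomologySelfIso (ComplexShape.down ℕ) 0 (op (G.obj (op (Over.mk (𝟙 S)))))).unop).symm

end GrothLib.PullH25
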